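import Mathlib
import Cfsg.Agent.Lib.Blau.Blk

/-! The number of Jordan blocks of a module with a local endomorphism ring. -/

set_option autoImplicit false
set_option linter.unusedSectionVars false
set_option linter.style.haveILetI false

open Module

namespace H46.N4.MA

open H33.Bl

variable {k : Type*} [Field k] {V : Type*} [AddCommGroup V] [Module k V] {G : Type*} [Group G]
  [Finite G] {p : ℕ} [hp : Fact p.Prime] {u : G} {E : Subgroup G} [CharP k p] [Fintype E]
  [FiniteDimensional k V]

theorem single_block' (h : Loc p u E) {ι : Type*} [Fintype ι] {β : ι → E →* kˣ} (hβ : Full β)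
    (ρ : Representation k G V)
    (hloc : ∀ Θ : End k V, (∀ g, ρ g * Θ = Θ * ρ g) → IsNilpotent Θ ∨ IsUnit Θ)
    (hd : ¬ p ∣ finrank k V) :
    finrank k (LinearMap.ker (ρ u - 1)) = finrank k V / p + 1 := by
  classical
  set T := ρ u - 1 with hT
  have hp1 := hp.out.one_lt
  have hTp : finrank k (LinearMap.ker (T ^ p)) = finrank k V := by
    have := H35.sub_one_pow_char (k := k) (p := p) (ρ u) 1
    rw [pow_one, ← map_pow, ← h.ord, pow_orderOf_eq_one, map_one, sub_self, h.ord] at this
    rw [this, LinearMap.ker_zero, finrank_top]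
  have hA : ∀ n, (∀ j < n, LinearMap.ker (T ^ j) ≤ LinearMap.range T) →
      finrank k (LinearMap.ker (T ^ n)) = n * finrank k (LinearMap.ker T) := by
    intro n hn
    induction n with
    | zero => rw [pow_zero, End.one_eq_id, LinearMap.ker_id, finrank_bot, zero_mul]
    | succ n ih =>
      rw [finrank_ker_succ, inf_eq_left.2 (hn n n.lt_succ_self), ih fun j hj => hn j (by omega)]
      ring
  have hex : ∃ j, j < p ∧ ¬ LinearMap.ker (T ^ j) ≤ LinearMap.range T := by
    by_contra h1
    push Not at h1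
    exact hd ⟨_, hTp.symm.trans (hA p h1)⟩
  obtain ⟨h1, h2⟩ := Nat.find_spec hex
  have h3 : ∀ j < Nat.find hex, LinearMap.ker (T ^ j) ≤ LinearMap.range T := fun j hj => by
    by_contra h3
    exact Nat.find_min hex hj ⟨by omega, h3⟩
  obtain ⟨s, hs⟩ : ∃ s, Nat.find hex = s + 1 := Nat.exists_eq_succ_of_ne_zero fun h4 => h2 (by
    rw [h4, pow_zero, End.one_eq_id, LinearMap.ker_id]; exact bot_le)
  rw [hs] at h1 h2 h3
  obtain ⟨i, v, hv1, hv2, hv3⟩ := hβ.exists_eig h.card_ne (τ := ρ.comp E.subtype)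
    (fun e x hx => ker_stable ρ h.ord (h.le e.2) hx) h2
  have hv4 : (T ^ s) v ∉ LinearMap.range (T ^ (s + 1)) := by
    rintro ⟨z, hz⟩
    have h4 : v - T z ∈ LinearMap.range T := h3 s s.lt_succ_self (by
      rw [LinearMap.mem_ker, map_sub, ← End.mul_apply, ← pow_succ, hz, sub_self])
    exact hv3 (by simpa using add_mem h4 (LinearMap.mem_range_self T z))
  obtain ⟨Θ, k1, k2, k3⟩ := exists_theta h ρ h1 hv2 hv1 hv4
  have k4 : IsUnit Θ := (hloc Θ k1).resolve_left fun ⟨n, hn⟩ => by
    obtain ⟨c, z, k4, k5⟩ := k2 n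
    rw [hn, LinearMap.zero_apply, eq_comm, add_eq_zero_iff_eq_neg, ← map_neg] at k5
    exact hv3 ((Submodule.smul_mem_iff _ k4).1 ⟨_, k5.symm⟩)
  have k5 : ∀ y, (T ^ (p - 1)) y = 0 → ∃ (c : k) (z : V), y = c • v + T z := fun y hy => by
    obtain ⟨hi, hs⟩ := (End.isUnit_iff Θ).1 k4
    obtain ⟨y, rfl⟩ := hs y
    have k5 : Commute T Θ := Commute.sub_left (k1 u) (Commute.one_left Θ)
    refine k3 y (hi ?_)
    rw [← End.mul_apply, ← (k5.pow_left _).eq, End.mul_apply, hy, map_zero]
  have hB : ∀ n, s + 1 + n ≤ p → finrank k (LinearMap.ker (T ^ (s + 1 + n))) + n =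
      (s + 1 + n) * finrank k (LinearMap.ker T) := by
    intro n hn
    induction n with
    | zero => exact hA _ h3
    | succ n ih =>
      have hvn : v ∈ LinearMap.ker (T ^ (s + 1 + n)) := by
        rw [LinearMap.mem_ker, add_comm, pow_add, End.mul_apply, LinearMap.mem_ker.1 hv1, map_zero]
      have h4 : LinearMap.ker (T ^ (s + 1 + n)) =
          (LinearMap.ker (T ^ (s + 1 + n)) ⊓ LinearMap.range T) ⊔ k ∙ v := by
        refine le_antisymm (fun y hy => ?_) (sup_le inf_le_left
          ((Submodule.span_singleton_le_iff_mem _ _).2 hvn))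
        obtain ⟨c, z, hz⟩ := k5 y (by
          rw [show p - 1 = p - 1 - (s + 1 + n) + (s + 1 + n) by omega, pow_add, End.mul_apply,
            LinearMap.mem_ker.1 hy, map_zero])
        rw [hz, add_comm (c • v)]
        refine Submodule.add_mem_sup ⟨?_, z, rfl⟩
          (Submodule.smul_mem _ _ (Submodule.mem_span_singleton_self v))
        rw [← sub_eq_iff_eq_add'.2 hz]
        exact sub_mem hy (Submodule.smul_mem _ _ hvn)
      have h5 := Submodule.finrank_sup_span_singleton
        (p := LinearMap.ker (T ^ (s + 1 + n)) ⊓ LinearMap.range T) (v := v) fun h5 => hv3 h5.2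
      rw [← h4] at h5
      have h6 := ih (by omega)
      rw [← add_assoc (s + 1), finrank_ker_succ, add_mul _ 1]
      omega
  have h4 : 0 < finrank k (LinearMap.ker T) := finrank_pos_iff_exists_ne_zero.2
    ⟨⟨(T ^ s) v, by rw [LinearMap.mem_ker, ← End.mul_apply, ← pow_succ']; exact hv1⟩,
      fun h4 => hv4 (by rw [show (T ^ s) v = 0 from congrArg Subtype.val h4]; exact zero_mem _)⟩
  obtain ⟨m, hm⟩ := Nat.exists_eq_succ_of_ne_zero h4.ne'
  have h5 := hB (p - (s + 1)) (by omega)
  rw [show s + 1 + (p - (s + 1)) = p by omega, hTp, hm, Nat.mul_succ] at h5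
  have h6 : finrank k V = s + 1 + p * m := by omega
  rw [hm, h6, Nat.add_mul_div_left _ _ hp.out.pos, Nat.div_eq_of_lt h1, zero_add]

end H46.N4.MA
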